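import Cfsg.Agent.H266.RIM.ASeven
import Cfsg.Agent.H35.RIM.BRElt
import Cfsg.Agent.H620.RIM.Mult
import Cfsg.Agent.H842.SevenSyl
import Cfsg.Agent.S1698
import Cfsg.Agent.S0135

/-!
# S4816: the row `Fi24'`, `p = 7` (helper266): `C(7A) = 7 × A₇`
-/

set_option autoImplicit false
set_option maxRecDepth 100000

namespace Cfsg.Agent.H266.RIM.Fi

open Cfsg Subgroup Equiv
open Cfsg.Agent.Fischer.Fi24RepDef Cfsg.Agent.Fischer.Fi24Rep
open Cfsg.Agent.H842.Seven Cfsg.Agent.H842.SevenSyl
open Cfsg.Spor (Fi24 Fi24')
open Cfsg.Agent.H622.Over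

universe u

theorem mem_comm {x : Fi24} {n : ℕ} (hn : Odd n) (h : x ^ n = 1) : x ∈ commutator Fi24 := by
  have hi : (commutator Fi24).index = 2 := Fischer.Fi24Final.index_commutator
  have h1 : (QuotientGroup.mk x : Fi24 ⧸ commutator Fi24) ^ n = 1 := by
    rw [← QuotientGroup.mk_pow, h, QuotientGroup.mk_one]
  have h2 : orderOf (QuotientGroup.mk x : Fi24 ⧸ commutator Fi24) ∣ 2 := by
    rw [← hi, Subgroup.index_eq_card]
    exact orderOf_dvd_natCard _
  have h3 : orderOf (QuotientGroup.mk x : Fi24 ⧸ commutator Fi24) ∣ n := orderOf_dvd_of_pow_eq_one h1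
  have h4 : Nat.Coprime 2 n := (Nat.coprime_two_left).2 hn
  have h5 := Nat.eq_one_of_dvd_coprimes h4 h2 h3
  rw [orderOf_eq_one_iff] at h5
  exact (QuotientGroup.eq_one_iff x).1 h5

theorem y7_order : orderOf y7 = 7 := by
  have : Fact (Nat.Prime 7) := ⟨by norm_num⟩
  exact orderOf_eq_prime y7_pow y7_ne

/-- the element of order 7 -/
noncomputable def yy : Fi24' := ⟨y7, mem_comm (n := 7) (by decide) y7_pow⟩

theorem yy_order : orderOf yy = 7 := by rw [← Subgroup.orderOf_coe]; exact y7_order

theorem alt_le : alternatingGroup (Fin 7) ≤ (commutator Fi24).comap Psi := by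
  rw [← Equiv.Perm.closure_three_cycles_eq_alternating, closure_le]
  intro σ hσ
  have h3 : σ ^ 3 = 1 := by
    have : orderOf σ = 3 := Equiv.Perm.IsThreeCycle.orderOf hσ
    rw [← this, pow_orderOf_eq_one]
  exact mem_comm (n := 3) (by decide) (by rw [← map_pow, h3, map_one])

theorem odd_not {σ : Perm (Fin 7)} (h : Psi σ ∈ commutator Fi24) : σ ∈ alternatingGroup (Fin 7) := by
  rw [Equiv.Perm.mem_alternatingGroup]
  rcases Int.units_eq_one_or (Equiv.Perm.sign σ) with h1 | h1
  · exact h1
  · exfalso
    have h01 : (0 : Fin 7) ≠ 1 := by decide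
    have h2 : swap (0 : Fin 7) 1 * σ ∈ alternatingGroup (Fin 7) := by
      rw [Equiv.Perm.mem_alternatingGroup, Equiv.Perm.sign_mul, h1, Equiv.Perm.sign_swap h01]
      rfl
    have h3 : Psi (swap (0 : Fin 7) 1 * σ) ∈ commutator Fi24 := alt_le h2
    rw [map_mul] at h3
    have h4 : Psi (swap (0 : Fin 7) 1) ∈ commutator Fi24 := (Subgroup.mul_mem_cancel_right _ h).1 h3
    exact Cfsg.Agent.R08.FiTwentyFour.odd (Psi_mem_L h01) h4

/-- `A₇` in `Fi24'` -/
noncomputable def ps : A →* Fi24' where
  toFun σ := ⟨Psi σ.1, alt_le σ.2⟩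
  map_one' := Subtype.ext (by simp)
  map_mul' a b := Subtype.ext (by simp)

theorem ps_injective : Function.Injective ps := by
  intro a b h
  exact Subtype.ext (Psi_injective (congrArg Subtype.val h))

theorem cent_eq : centralizer ({yy} : Set Fi24') = zpowers yy ⊔ ps.range := by
  apply le_antisymm
  · intro n hn
    rw [mem_centralizer_singleton_iff] at hn
    have h1 : n.1 * y7 = y7 * n.1 := congrArg Subtype.val hn
    obtain ⟨i, σ, h2⟩ := exists_of_comm7 h1
    have h3 : Psi σ ∈ commutator Fi24 := by
      have h4 : Psi σ = (y7 ^ i)⁻¹ * n.1 := by rw [h2]; group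
      rw [h4]
      exact mul_mem (inv_mem (pow_mem (yy.2) i)) n.2
    have h5 : n = yy ^ i * ps ⟨σ, odd_not h3⟩ := Subtype.ext h2
    rw [h5]
    exact mul_mem (mem_sup_left (pow_mem (mem_zpowers yy) i)) (mem_sup_right ⟨_, rfl⟩)
  · refine sup_le ?_ ?_
    · rw [zpowers_le, mem_centralizer_singleton_iff]
    · rintro _ ⟨σ, rfl⟩
      rw [mem_centralizer_singleton_iff]
      exact Subtype.ext (y7_Psi σ.1).eq

theorem card_range : Nat.card ps.range = 2520 := by
  rw [← card_A]
  exact (Nat.card_congr (MonoidHom.ofInjective ps_injective).toEquiv).symm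

theorem exists_third : ∀ a b : Fin 7, ∃ c : Fin 7, c ≠ a ∧ c ≠ b := by decide

/-- a power of `y7` in the range of `Psi` is trivial -/
theorem inf_eq : zpowers yy ⊓ ps.range = ⊥ := by
  rw [eq_bot_iff]
  rintro x ⟨hx1, σ, rfl⟩
  obtain ⟨k, hk⟩ := hx1
  have h1 : y7 ^ k = Psi σ.1 := congrArg Subtype.val hk
  -- `σ` commutes with everything in `A₇`
  have h2 : ∀ τ : Perm (Fin 7), σ.1 * τ = τ * σ.1 := by
    intro τ
    apply Psi_injective
    rw [map_mul, map_mul, ← h1]
    exact ((y7_Psi τ).symm.zpow_left k).eq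
  have h3 : σ.1 = 1 := by
    ext a
    by_contra hne
    have hne' : σ.1 a ≠ a := fun h => hne (by rw [h]; rfl)
    obtain ⟨c, hc1, hc2⟩ := exists_third a (σ.1 a)
    have h4 : σ.1 (swap a c a) = swap a c (σ.1 a) := congrArg (fun f : Perm (Fin 7) => f a) (h2 (swap a c))
    rw [swap_apply_left, swap_apply_of_ne_of_ne hne' hc2.symm] at h4
    exact hc1 (σ.1.injective h4)
  rw [mem_bot]
  exact Subtype.ext (by
    change Psi σ.1 = 1
    rw [h3, map_one])

theorem deg_dvd {G : Type*} [Group G] [Finite G] {χ : G → ℂ} (hχ : IsIrrCharacter G χ) :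
    charDegree χ ∣ Nat.card G := by
  obtain ⟨n, ρ, hρ, rfl⟩ := hχ
  have h2 : charDegree ρ.character = Module.finrank ℂ (Fin n → ℂ) := by
    rw [charDegree, Representation.char_one]
    simp
  rw [h2]
  exact Cfsg.Agent.S0135.result ρ

theorem finite_fi : Finite Fi24' := by
  have := Cfsg.Agent.R08.FiTwentyFour.finite_Fi24
  exact inferInstanceAs (Finite ↥(commutator Fi24))

theorem nb_three {K : Type u} [Group K] [Finite K] (h : Spor.IsoFi24' K) : H665.RIM.NB 7 3 K := by
  obtain ⟨φ⟩ := h
  have h7 : Fact (Nat.Prime 7) := ⟨by norm_num⟩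
  have hfin := finite_fi
  set L : Subgroup K := ps.range.comap φ.toMonoidHom with hL
  have hy : orderOf (φ.symm yy) = 7 := by rw [φ.symm.orderOf_eq, yy_order]
  have hmap : ∀ x : K, x ∈ zpowers (φ.symm yy) ↔ φ x ∈ zpowers yy := by
    intro x
    constructor
    · rintro ⟨k, rfl⟩
      exact ⟨k, by simp⟩
    · rintro ⟨k, hk⟩
      exact ⟨k, φ.injective (by simpa using hk)⟩
  refine H35.RIM.nb_of_elt (p := 7) (m := 3) (by norm_num) (x := φ.symm yy) (L := L) hy ?_ ?_ ?_ ?_
  · apply le_antisymm
    · intro n hn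
      rw [mem_centralizer_singleton_iff] at hn
      have h1 : φ n ∈ centralizer ({yy} : Set Fi24') := by
        rw [mem_centralizer_singleton_iff]
        have := congrArg φ hn
        simpa using this
      rw [cent_eq] at h1
      have h2 : ∀ m ∈ zpowers yy ⊔ ps.range, φ.symm m ∈ zpowers (φ.symm yy) ⊔ L := by
        intro m hm
        have h3 : (zpowers yy ⊔ ps.range).map φ.symm.toMonoidHom ≤ zpowers (φ.symm yy) ⊔ L := by
          rw [Subgroup.map_sup]
          refine sup_le_sup ?_ ?_
          · rw [MonoidHom.map_zpowers]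
            exact le_rfl
          · rintro _ ⟨w, hw, rfl⟩
            rw [hL, mem_comap]
            simpa using hw
        exact h3 ⟨m, hm, rfl⟩
      have h4 := h2 _ h1
      rwa [φ.symm_apply_apply] at h4
    · refine sup_le ?_ ?_
      · rw [zpowers_le, mem_centralizer_singleton_iff]
      · intro x hx
        rw [mem_centralizer_singleton_iff]
        have h1 : φ x ∈ centralizer ({yy} : Set Fi24') := by
          rw [cent_eq]
          exact mem_sup_right hx
        rw [mem_centralizer_singleton_iff] at h1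
        apply φ.injective
        simpa using h1
  · rw [eq_bot_iff]
    rintro x ⟨hx1, hx2⟩
    have h1 : φ x ∈ zpowers yy ⊓ ps.range := ⟨(hmap x).1 hx1, hx2⟩
    rw [inf_eq, mem_bot] at h1
    rw [mem_bot]
    exact (map_eq_one_iff φ φ.injective).1 h1
  · rw [Nat.card_congr φ.toEquiv, Cfsg.Agent.S1698.result.2]
    norm_num
  · intro E _ _ π hπ hker hperf hcard l hl
    have hLc : Nat.card L = 2520 := by
      rw [← card_range]
      refine Nat.card_congr (φ.toEquiv.subtypeEquiv fun x => ?_)
      rfl
    -- the group `L.comap π` and its central subgroup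
    set G : Subgroup E := L.comap π with hG
    set Z : Subgroup G := π.ker.subgroupOf G with hZ
    have hkG : π.ker ≤ G := fun z hz => by
      rw [hG, mem_comap, MonoidHom.mem_ker.1 hz]
      exact one_mem _
    have hZc : Z ≤ center G := by
      intro z hz
      rw [mem_center_iff]
      intro g
      exact Subtype.ext (mem_center_iff.1 (hker (mem_subgroupOf.1 hz)) g.1)
    have hZn : Z.Normal := by rw [hZ]; infer_instance
    have hZcard : Nat.card Z = 3 := by
      rw [hZ, Nat.card_congr (subgroupOfEquivOfLe hkG).toEquiv, hcard]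
    -- the quotient
    let f : G →* ps.range := {
      toFun := fun g => ⟨φ (π g.1), g.2⟩
      map_one' := Subtype.ext (by simp)
      map_mul' := fun a b => Subtype.ext (by simp) }
    have hf : Function.Surjective f := by
      rintro ⟨w, hw⟩
      obtain ⟨g, hg⟩ := hπ (φ.symm w)
      refine ⟨⟨g, ?_⟩, Subtype.ext ?_⟩
      · rw [hG, mem_comap, hg, hL, mem_comap]
        simpa using hw
      · change φ (π g) = w
        rw [hg, φ.apply_symm_apply]
    have hfk : f.ker = Z := by
      ext g
      rw [MonoidHom.mem_ker, hZ, mem_subgroupOf, MonoidHom.mem_ker]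
      constructor
      · intro h
        have h1 : φ (π g.1) = 1 := congrArg Subtype.val h
        exact (map_eq_one_iff φ φ.injective).1 h1
      · intro h
        apply Subtype.ext
        change φ (π g.1) = 1
        rw [h, map_one]
    have e1 : G ⧸ Z ≃* ps.range :=
      (QuotientGroup.quotientMulEquivOfEq hfk.symm).trans (QuotientGroup.quotientKerEquivOfSurjective f hf)
    have e2 : A ≃* ps.range := MonoidHom.ofInjective ps_injective
    let c : Z →* ℂˣ := l.comp (subgroupOfEquivOfLe hkG).toMonoidHom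
    obtain ⟨χ, hχ1, hχ2⟩ := exists_seven hZc (by rw [hZcard]; norm_num) (by rw [hZcard]; norm_num)
      (by rw [hZcard]; norm_num) (e2.trans e1.symm) c
    refine ⟨χ, χ.2, ?_, ?_⟩
    · intro z hz hz'
      have h1 := hχ1 1 ⟨⟨z, hz'⟩, hz⟩
      rw [one_mul] at h1
      exact h1
    · have hd0 : charDegree (χ : G → ℂ) ≠ 0 := by
        intro h0
        obtain ⟨n, hn, hn'⟩ := Cfsg.Agent.Characters.Core.isIrr_apply_one χ.2
        unfold charDegree at h0
        rw [hn'] at h0
        simp at h0
        omega
      have hb : (Nat.card L).factorization 7 = 1 := by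
        rw [hLc, show 2520 = 2 ^ 3 * 3 ^ 2 * 5 * 7 by norm_num]
        rw [Nat.factorization_mul (by norm_num) (by norm_num), Nat.factorization_mul (by norm_num) (by norm_num),
          Nat.factorization_mul (by norm_num) (by norm_num), Nat.factorization_pow, Nat.factorization_pow]
        simp [Nat.Prime.factorization Nat.prime_two, Nat.Prime.factorization Nat.prime_three,
          Nat.Prime.factorization Nat.prime_five, Nat.Prime.factorization h7.out]
      rw [hb]
      refine le_antisymm ?_ ?_
      · have h1 : charDegree (χ : G → ℂ) ∣ Nat.card G := deg_dvd χ.2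
        have h2 : Nat.card G = 2520 * 3 := by
          have := Z.card_eq_card_quotient_mul_card_subgroup
          rw [hZcard, Nat.card_congr e1.toEquiv, card_range] at this
          exact this
        rw [h2] at h1
        have h3 := (Nat.factorization_le_iff_dvd hd0 (by norm_num)).2 h1 7
        refine h3.trans ?_
        rw [show 2520 * 3 = 2 ^ 3 * 3 ^ 3 * 5 * 7 by norm_num]
        rw [Nat.factorization_mul (by norm_num) (by norm_num), Nat.factorization_mul (by norm_num) (by norm_num),
          Nat.factorization_mul (by norm_num) (by norm_num), Nat.factorization_pow, Nat.factorization_pow]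
        simp [Nat.Prime.factorization Nat.prime_two, Nat.Prime.factorization Nat.prime_three,
          Nat.Prime.factorization Nat.prime_five, Nat.Prime.factorization h7.out]
      · exact (h7.out.dvd_iff_one_le_factorization hd0).1 hχ2

/-- **`Fi24'`, `p = 7`.** -/
theorem nball_seven {K : Type u} [Group K] [Finite K] (h : Spor.IsoFi24' K) : H665.RIM.NBall.{u} 7 K := by
  refine H620.RIM.nball_of_mdvd (H620.RIM.dvd_fi24 h) fun m hm hm2 _ => ?_
  rcases (Nat.dvd_prime Nat.prime_three).1 hm with rfl | rfl
  · omega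
  · exact nb_three h

end Cfsg.Agent.H266.RIM.Fi
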